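import Cfsg.Agent.H91.U.Defs
import Cfsg.Agent.TitsThree.KSideUDesc

/-!
# The standard Hermitian space (helper91, S2196)

* `sB hF n` : the standard Hermitian form on `Fin n → F`, linear in the second variable: `sB hF n x y = hermForm n F q y x`;
* `SIso_sB` : its special isometry group is `IU F q n = toLin (SU n F q)`;
* `pi hF n : SIso (sB hF n) →* PSU n F q`, surjective, the kernel consists of scalars.
-/

set_option autoImplicit false
set_option linter.unusedSectionVars false

namespace Cfsg.Agent.H91.U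

open Matrix Cfsg Module Cfsg.Agent.LieClassical.HermBasic Cfsg.Agent.LieClassical.HermSiegel
open Cfsg.Agent.TitsThree Cfsg.Agent.TitsThree.KSideU Cfsg.Agent.TitsThree.KSideUDesc

variable {F : Type*} [Field F] [Fintype F] {q : ℕ}

/-- the standard Hermitian form, linear in the second variable -/
def sB (hF : Fintype.card F = q ^ 2) (n : ℕ) :
    (Fin n → F) →ₛₗ[((conj hF : F ≃+* F) : F →+* F)] (Fin n → F) →ₗ[F] F :=
  LinearMap.mk₂'ₛₗ ((conj hF : F ≃+* F) : F →+* F) (RingHom.id F) (fun x y => hermForm n F q y x)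
    (fun _ _ _ => herm_add_right hF _ _ _) (fun _ _ _ => herm_smul_right _ _ _)
    (fun _ _ _ => herm_add_left _ _ _) (fun _ _ _ => herm_smul_left _ _ _)

@[simp] theorem sB_apply (hF : Fintype.card F = q ^ 2) {n : ℕ} (x y : Fin n → F) :
    sB hF n x y = hermForm n F q y x := rfl

theorem hform_sB (hF : Fintype.card F = q ^ 2) (n : ℕ) : HForm (sB hF n) where
  nd := by
    refine ⟨fun x h => ?_, fun y h => ?_⟩
    · exact herm_nondeg hF fun v => herm_eq_zero_swap hF (h v)
    · exact herm_nondeg hF fun v => h v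
  symm := ⟨fun x y => (herm_swap hF y x).symm⟩
  invol := fun a => pow_q_pow_q hF a
  ne_id := by
    intro h
    have h1 : ∀ x : F, x ^ q = x := fun x => congrArg (fun f : F →+* F => f x) h
    have hq : 1 < q := by
      have h2 := Fintype.one_lt_card (α := F)
      rw [hF] at h2
      by_contra hcon
      interval_cases q <;> omega
    have h2 := FiniteField.forall_pow_eq_one_iff (K := F) (q - 1)
    have h3 : ∀ x : Fˣ, x ^ (q - 1) = 1 := by
      intro x
      have h4 := h1 x
      have h5 : (x : F) ^ (q - 1) * x = 1 * x := by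
        rw [← pow_succ, Nat.sub_add_cancel hq.le, h4, one_mul]
      exact Units.ext (by rw [Units.val_pow_eq_pow_val, Units.val_one]; exact mul_right_cancel₀ x.ne_zero h5)
    have h4 := h2.1 h3
    rw [hF] at h4
    have h5 : q ^ 2 - 1 = (q - 1) * (q + 1) := by
      obtain ⟨c, rfl⟩ : ∃ c, q = c + 1 := ⟨q - 1, by omega⟩
      rw [Nat.add_sub_cancel]
      have : (c + 1) ^ 2 = c * (c + 1 + 1) + 1 := by ring
      rw [this, Nat.add_sub_cancel]
    have h6 := Nat.le_of_dvd (by omega) h4
    rw [h5] at h6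
    have h7 : q - 1 < (q - 1) * (q + 1) := by
      nlinarith [Nat.sub_pos_of_lt hq]
    omega

theorem finrank_std (n : ℕ) : finrank F (Fin n → F) = n := by
  rw [Module.finrank_fintype_fun_eq_card, Fintype.card_fin]

theorem SIso_sB (hF : Fintype.card F = q ^ 2) (n : ℕ) : SIso (sB hF n) = IU F q n := by
  ext g
  constructor
  · rintro ⟨h1, h2⟩
    have hmul : ∀ v, LinearMap.toMatrix' (g : (Fin n → F) →ₗ[F] (Fin n → F)) *ᵥ v = g v := fun v =>
      LinearMap.toMatrix'_mulVec _ _
    have hdet : (LinearMap.toMatrix' (g : (Fin n → F) →ₗ[F] (Fin n → F))).det = 1 := by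
      rw [LinearMap.det_toMatrix', ← LinearEquiv.coe_det, h1, Units.val_one]
    refine ⟨mkSU (LinearMap.toMatrix' (g : (Fin n → F) →ₗ[F] (Fin n → F))) hdet fun u v => ?_, ?_⟩
    · rw [hmul, hmul]
      exact h2 v u
    · apply LinearEquiv.ext
      intro v
      rw [KSideU.toLin_apply, act_def, mat_mkSU, hmul]
  · rintro ⟨g, rfl⟩
    refine ⟨?_, fun x y => ?_⟩
    · apply Units.ext
      rw [LinearEquiv.coe_det, Units.val_one, ← det_mat g, ← LinearMap.det_toMatrix']
      congr 1
      apply Matrix.toLin'.injective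
      rw [Matrix.toLin'_toMatrix']
      ext1 v
      rfl
    · rw [sB_apply, sB_apply, KSideU.toLin_apply, KSideU.toLin_apply, herm_act]

/-- the projection onto `PSU` -/
noncomputable def pi (hF : Fintype.card F = q ^ 2) (n : ℕ) : SIso (sB hF n) →* PSU n F q :=
  (toPSU F q n).comp (Subgroup.inclusion (SIso_sB hF n).le)

theorem pi_apply (hF : Fintype.card F = q ^ 2) {n : ℕ} (g : SIso (sB hF n)) :
    pi hF n g = toPSU F q n ⟨g.1, (SIso_sB hF n).le g.2⟩ := rfl

theorem pi_surjective (hF : Fintype.card F = q ^ 2) (n : ℕ) : Function.Surjective (pi hF n) := by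
  intro y
  obtain ⟨g, rfl⟩ := toPSU_surjective y
  exact ⟨⟨g.1, (SIso_sB hF n).ge g.2⟩, rfl⟩

/-- The kernel consists of scalars. -/
theorem scalar_of_pi_eq_one (hF : Fintype.card F = q ^ 2) {n : ℕ} (hn : 3 ≤ n) (g : SIso (sB hF n))
    (h : pi hF n g = 1) : ∃ a : F, ∀ v, g.1 v = a • v :=
  scalar_of_toPSU_eq_one hF hn ⟨g.1, (SIso_sB hF n).le g.2⟩ h

end Cfsg.Agent.H91.U
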