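import Mathlib
import Cfsg.Agent.S0751

/-!
# Hermitian forms: special isometry group, totally isotropic frames, flags, positions (helper91, S2196)

* `HForm B` : `B : V →ₛₗ[σ] V →ₗ[F] F` is a nondegenerate Hermitian form (`σ` an involution `≠ 1`);
* `SIso B` : its special isometry group (determinant `1`), a subgroup of `V ≃ₗ[F] V`;
* `TI B L` : the subspace `L` is totally isotropic; `Frame B u` : `u : Fin j → V` is linearly independent with totally
  isotropic span;
* `witt_family` : Witt's theorem for linearly independent families with the same Gram matrix (no determinant);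
* `W u i` : the span of the first `i` vectors of the frame `u : Fin j → V`; `cl B u v` : the position of the vector `v`
  in the chain `0 < W u 1 < ... < W u j ≤ (W u j)^⊥ < ... < (W u 1)^⊥ < V`.
-/

set_option autoImplicit false
set_option linter.unusedSectionVars false

namespace Cfsg.Agent.H91.U

open Module

variable {F V : Type*} [Field F] [AddCommGroup V] [Module F V] {σ : F →+* F}

/-- nondegenerate Hermitian form -/
structure HForm (B : V →ₛₗ[σ] V →ₗ[F] F) : Prop where
  nd : B.Nondegenerate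
  symm : B.IsSymm
  invol : ∀ a, σ (σ a) = a
  ne_id : σ ≠ RingHom.id F

/-- the special isometry group -/
def SIso (B : V →ₛₗ[σ] V →ₗ[F] F) : Subgroup (V ≃ₗ[F] V) where
  carrier := {g | LinearEquiv.det g = 1 ∧ ∀ x y, B (g x) (g y) = B x y}
  mul_mem' := fun {g h} hg hh => ⟨by rw [map_mul, hg.1, hh.1, mul_one], fun x y => by
    rw [LinearEquiv.mul_apply, LinearEquiv.mul_apply, hg.2, hh.2]⟩
  one_mem' := ⟨map_one _, fun _ _ => rfl⟩
  inv_mem' := fun {g} hg => ⟨by rw [map_inv, hg.1, inv_one], fun x y => by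
    have h1 := hg.2 (g⁻¹ x) (g⁻¹ y)
    rw [← LinearEquiv.mul_apply, ← LinearEquiv.mul_apply, mul_inv_cancel] at h1
    exact h1.symm⟩

variable {B : V →ₛₗ[σ] V →ₗ[F] F}

theorem mem_SIso {g : V ≃ₗ[F] V} : g ∈ SIso B ↔ LinearEquiv.det g = 1 ∧ ∀ x y, B (g x) (g y) = B x y := Iff.rfl

/-- totally isotropic subspace -/
def TI (B : V →ₛₗ[σ] V →ₗ[F] F) (L : Submodule F V) : Prop := ∀ x ∈ L, ∀ y ∈ L, B x y = 0

/-- totally isotropic frames -/
structure Frame (B : V →ₛₗ[σ] V →ₗ[F] F) {j : ℕ} (u : Fin j → V) : Prop where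
  li : LinearIndependent F u
  ti : ∀ i l, B (u i) (u l) = 0

theorem HForm.swap (hB : HForm B) (x y : V) : B x y = σ (B y x) := (hB.symm.eq y x).symm

theorem HForm.swap_zero (hB : HForm B) {x y : V} (h : B x y = 0) : B y x = 0 := by
  rw [hB.swap, h, map_zero]

theorem HForm.eq_zero (hB : HForm B) {x : V} (h : ∀ y, B x y = 0) : x = 0 :=
  hB.nd.1 x h

theorem HForm.exists_ne (hB : HForm B) {x : V} (hx : x ≠ 0) : ∃ y, B x y ≠ 0 := by
  by_contra hcon
  push Not at hcon
  exact hx (hB.eq_zero hcon)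

theorem smul_left' (c : F) (x y : V) : B (c • x) y = σ c * B x y := by
  rw [LinearMap.map_smulₛₗ, LinearMap.smul_apply, smul_eq_mul]

theorem smul_right' (c : F) (x y : V) : B x (c • y) = c * B x y := by
  rw [map_smul, smul_eq_mul]

/-- **Witt's theorem for families** (no condition on the determinant). -/
theorem witt_family [Finite F] [FiniteDimensional F V] (hB : HForm B) {ι : Type*} {w w' : ι → V}
    (li : LinearIndependent F w) (li' : LinearIndependent F w') (h : ∀ i j, B (w i) (w j) = B (w' i) (w' j)) :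
    ∃ g : V ≃ₗ[F] V, (∀ x y, B (g x) (g y) = B x y) ∧ ∀ i, g (w i) = w' i := by
  classical
  let b := Module.Basis.span li
  let b' := Module.Basis.span li'
  let φ : Submodule.span F (Set.range w) ≃ₗ[F] Submodule.span F (Set.range w') := b.equiv b' (Equiv.refl ι)
  have hφ : ∀ i, (φ (b i) : V) = w' i := by
    intro i
    rw [Module.Basis.equiv_apply]
    exact congrArg Subtype.val (Module.Basis.span_apply li' i)
  have hb : ∀ i, (b i : V) = w i := fun i => congrArg Subtype.val (Module.Basis.span_apply li i)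
  have hiso : ∀ x x' : Submodule.span F (Set.range w), B (φ x : V) (φ x' : V) = B (x : V) (x' : V) := by
    let B1 : Submodule.span F (Set.range w) →ₛₗ[σ] Submodule.span F (Set.range w) →ₗ[F] F :=
      (B.comp ((Submodule.subtype _).comp φ.toLinearMap)).compl₂ ((Submodule.subtype _).comp φ.toLinearMap)
    let B2 : Submodule.span F (Set.range w) →ₛₗ[σ] Submodule.span F (Set.range w) →ₗ[F] F :=
      B.domRestrict₁₂ _ _
    have hE : B1 = B2 := by
      refine LinearMap.ext_basis b b fun i j => ?_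
      change B (φ (b i) : V) (φ (b j) : V) = B (b i : V) (b j : V)
      rw [hφ, hφ, hb, hb, h]
    intro x x'
    exact congrArg (fun C : Submodule.span F (Set.range w) →ₛₗ[σ] Submodule.span F (Set.range w) →ₗ[F] F => C x x') hE
  obtain ⟨g, hg, hgx⟩ := Cfsg.Agent.S0751.result σ hB.ne_id hB.invol B hB.symm hB.nd _ _ φ hiso
  refine ⟨g, hg, fun i => ?_⟩
  rw [← hb, hgx, hφ]

/-! ### flags -/

variable {j : ℕ}

variable (F) in
/-- the subspaces of the flag -/
def W (u : Fin j → V) (i : ℕ) : Submodule F V := Submodule.span F (u '' {l | (l : ℕ) < i})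

theorem W_mono (u : Fin j → V) {i i' : ℕ} (h : i ≤ i') : W F u i ≤ W F u i' :=
  Submodule.span_mono (Set.image_mono fun _ hl => lt_of_lt_of_le hl h)

theorem mem_W (u : Fin j → V) {i : ℕ} {l : Fin j} (h : (l : ℕ) < i) : u l ∈ W F u i :=
  Submodule.subset_span ⟨l, h, rfl⟩

theorem W_zero (u : Fin j → V) : W F u 0 = ⊥ := by
  unfold W
  rw [show {l : Fin j | (l : ℕ) < 0} = ∅ by ext; simp, Set.image_empty, Submodule.span_empty]

theorem W_of_le (u : Fin j → V) {i : ℕ} (h : j ≤ i) : W F u i = Submodule.span F (Set.range u) := by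
  unfold W
  rw [show {l : Fin j | (l : ℕ) < i} = Set.univ by ext l; simp; omega, Set.image_univ]

theorem W_le_iff {u : Fin j → V} {i : ℕ} {C : Submodule F V} : W F u i ≤ C ↔ ∀ l : Fin j, (l : ℕ) < i → u l ∈ C := by
  unfold W
  rw [Submodule.span_le]
  constructor
  · exact fun h l hl => h ⟨l, hl, rfl⟩
  · rintro h _ ⟨l, hl, rfl⟩
    exact h l hl

theorem map_W (u : Fin j → V) (i : ℕ) (g : V ≃ₗ[F] V) :
    (W F u i).map (g : V →ₗ[F] V) = W F (fun l => g (u l)) i := by
  unfold W
  rw [Submodule.map_span, Set.image_image]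
  rfl

theorem W_le_of_mem {u u' : Fin j → V} (h : ∀ l : Fin j, u' l ∈ W F u (l + 1)) (i : ℕ) : W F u' i ≤ W F u i :=
  W_le_iff.2 fun l hl => W_mono u (by omega) (h l)

theorem W_eq_of_mem {u u' : Fin j → V} (h : ∀ l : Fin j, u' l ∈ W F u (l + 1)) (h' : ∀ l : Fin j, u l ∈ W F u' (l + 1))
    (i : ℕ) : W F u' i = W F u i :=
  le_antisymm (W_le_of_mem h i) (W_le_of_mem h' i)

theorem finrank_W {u : Fin j → V} (hu : LinearIndependent F u) {i : ℕ} (hi : i ≤ j) : finrank F (W F u i) = i := by
  classical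
  have h1 : W F u i = Submodule.span F (Set.range fun l : Fin i => u (Fin.castLE hi l)) := by
    unfold W
    congr 1
    ext v
    constructor
    · rintro ⟨l, hl, rfl⟩
      exact ⟨⟨l, hl⟩, rfl⟩
    · rintro ⟨l, rfl⟩
      exact ⟨Fin.castLE hi l, l.2, rfl⟩
  rw [h1]
  exact (finrank_span_eq_card (hu.comp _ (Fin.castLE_injective hi))).trans (Fintype.card_fin i)

theorem ti_span {s : Set V} (h : ∀ x ∈ s, ∀ y ∈ s, B x y = 0) : TI B (Submodule.span F s) := by
  intro x hx y hy
  induction hx using Submodule.span_induction with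
  | mem x hx =>
    induction hy using Submodule.span_induction with
    | mem y hy => exact h x hx y hy
    | zero => rw [map_zero]
    | add y z _ _ h1 h2 => rw [map_add, h1, h2, add_zero]
    | smul c y _ h => rw [map_smul, h, smul_zero]
  | zero => rw [map_zero, LinearMap.zero_apply]
  | add y z _ _ h1 h2 => rw [map_add, LinearMap.add_apply, h1, h2, add_zero]
  | smul c y _ h => rw [smul_left', h, mul_zero]

theorem Frame.span_ti {u : Fin j → V} (hu : Frame B u) : TI B (Submodule.span F (Set.range u)) :=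
  ti_span (by rintro _ ⟨i, rfl⟩ _ ⟨l, rfl⟩; exact hu.ti i l)

theorem TI.mono {C C' : Submodule F V} (h : TI B C') (hC : C ≤ C') : TI B C :=
  fun x hx y hy => h x (hC hx) y (hC hy)

theorem Frame.W_ti {u : Fin j → V} (hu : Frame B u) (i : ℕ) : TI B (W F u i) := by
  refine hu.span_ti.mono ?_
  rw [← W_of_le u (le_max_right i j)]
  exact W_mono u (le_max_left i j)

theorem Frame.of_flag {u u' : Fin j → V} (hu : Frame B u) (h : ∀ l : Fin j, u' l ∈ W F u (l + 1))
    (h' : ∀ l : Fin j, u l ∈ W F u' (l + 1)) : Frame B u' := by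
  have h1 := W_eq_of_mem h h' j
  rw [W_of_le u' le_rfl, W_of_le u le_rfl] at h1
  refine ⟨?_, ?_⟩
  · rw [linearIndependent_iff_card_eq_finrank_span, Set.finrank, h1, ← Set.finrank]
    exact linearIndependent_iff_card_eq_finrank_span.1 hu.li
  · intro i l
    refine Frame.span_ti hu _ ?_ _ ?_
    · rw [← h1]; exact Submodule.subset_span ⟨i, rfl⟩
    · rw [← h1]; exact Submodule.subset_span ⟨l, rfl⟩

theorem Frame.map {u : Fin j → V} (hu : Frame B u) {g : V ≃ₗ[F] V} (hg : g ∈ SIso B) : Frame B (fun l => g (u l)) :=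
  ⟨hu.li.map' (g : V →ₗ[F] V) (LinearEquiv.ker g), fun i l => by rw [hg.2, hu.ti]⟩

/-! ### the chain -/

variable (B) in
/-- the orthogonal space -/
def perp (C : Submodule F V) : Submodule F V where
  carrier := {v | ∀ z ∈ C, B v z = 0}
  add_mem' := fun {a b} ha hb z hz => by rw [map_add, LinearMap.add_apply, ha z hz, hb z hz, add_zero]
  zero_mem' := fun z _ => by rw [map_zero, LinearMap.zero_apply]
  smul_mem' := fun c x hx z hz => by rw [smul_left', hx z hz, mul_zero]

theorem mem_perp {C : Submodule F V} {v : V} : v ∈ perp B C ↔ ∀ z ∈ C, B v z = 0 := Iff.rfl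

theorem perp_anti {C C' : Submodule F V} (h : C ≤ C') : perp B C' ≤ perp B C := fun _ hv z hz => hv z (h hz)

theorem mem_perp_W {u : Fin j → V} {i : ℕ} {v : V} : v ∈ perp B (W F u i) ↔ ∀ l : Fin j, (l : ℕ) < i → B v (u l) = 0 := by
  constructor
  · exact fun h l hl => h _ (mem_W u hl)
  · intro h
    have h1 : W F u i ≤ LinearMap.ker (B v) := W_le_iff.2 fun l hl => LinearMap.mem_ker.2 (h l hl)
    exact fun z hz => LinearMap.mem_ker.1 (h1 hz)

variable (B) in
/-- the chain of subspaces -/
def Ch (u : Fin j → V) (i : ℕ) : Submodule F V := if i ≤ j then W F u i else perp B (W F u (2 * j + 1 - i))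

theorem Ch_of_le {u : Fin j → V} {i : ℕ} (h : i ≤ j) : Ch B u i = W F u i := if_pos h

theorem Ch_of_lt {u : Fin j → V} {i : ℕ} (h : j < i) : Ch B u i = perp B (W F u (2 * j + 1 - i)) := if_neg (by omega)

theorem Ch_mono {u : Fin j → V} (hu : Frame B u) {i i' : ℕ} (h : i ≤ i') : Ch B u i ≤ Ch B u i' := by
  by_cases h1 : i' ≤ j
  · rw [Ch_of_le h1, Ch_of_le (h.trans h1)]
    exact W_mono u h
  · by_cases h2 : i ≤ j
    · rw [Ch_of_le h2, Ch_of_lt (by omega)]
      intro v hv z hz
      refine hu.W_ti (max i (2 * j + 1 - i')) v ?_ z ?_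
      · exact W_mono u (le_max_left _ _) hv
      · exact W_mono u (le_max_right _ _) hz
    · rw [Ch_of_lt (by omega), Ch_of_lt (by omega)]
      exact perp_anti (W_mono u (by omega))

theorem Ch_top (u : Fin j → V) : Ch B u (2 * j + 1) = ⊤ := by
  rw [Ch_of_lt (by omega), Nat.sub_self, W_zero, eq_top_iff]
  intro v _ z hz
  rw [(Submodule.mem_bot F).1 hz, map_zero]

theorem exists_mem_Ch (u : Fin j → V) (v : V) : ∃ i, v ∈ Ch B u i := ⟨2 * j + 1, by rw [Ch_top]; trivial⟩

variable (B) in
open Classical in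
/-- the position of a vector in the chain -/
noncomputable def cl (u : Fin j → V) (v : V) : ℕ := Nat.find (exists_mem_Ch (B := B) u v)

theorem mem_Ch_iff {u : Fin j → V} (hu : Frame B u) {v : V} {i : ℕ} : v ∈ Ch B u i ↔ cl B u v ≤ i := by
  classical
  constructor
  · exact fun h => Nat.find_min' _ h
  · exact fun h => Ch_mono hu h (Nat.find_spec (exists_mem_Ch (B := B) u v))

theorem cl_le {u : Fin j → V} (hu : Frame B u) (v : V) : cl B u v ≤ 2 * j + 1 := by
  rw [← mem_Ch_iff hu, Ch_top]; trivial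

theorem cl_eq_zero {u : Fin j → V} (hu : Frame B u) {v : V} : cl B u v = 0 ↔ v = 0 := by
  rw [← Nat.le_zero, ← mem_Ch_iff hu, Ch_of_le (Nat.zero_le j), W_zero, Submodule.mem_bot]


end Cfsg.Agent.H91.U
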