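import Cfsg.Agent.H91.U.Std
import Cfsg.Agent.H415.SpFlag
import Cfsg.Agent.H396.CommTab1

/-!
# The Borel subgroup of `PSU` fixes the standard totally isotropic flag (helper91, after helper415)
-/

set_option autoImplicit false
set_option linter.unusedSectionVars false

namespace Cfsg.Agent.H91.UBorel

open Cfsg
open Cfsg.Agent.ChevalleyStructure.CoxeterGeom Cfsg.Agent.Tits.Roots
open Cfsg.Agent.Nodes Cfsg.Agent.Nodes.TypeC Cfsg.Agent.Nodes.Comb Cfsg.Agent.Nodes.Reps Cfsg.Agent.Nodes.WittRoot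
  Cfsg.Agent.Nodes.BNOf Cfsg.Agent.Nodes.RGDLib Cfsg.Agent.Nodes.WittAll Cfsg.Agent.Nodes.WittU
open Cfsg.Agent.TitsThree Cfsg.Agent.TitsThree.Siegel Cfsg.Agent.TitsThree.SiegelGen
  Cfsg.Agent.TitsThree.WittFrame Cfsg.Agent.TitsThree.WBridge Cfsg.Agent.TitsThree.WittWeyl
  Cfsg.Agent.TitsThree.FrameCN Cfsg.Agent.TitsThree.KSideU Cfsg.Agent.TitsThree.KSideUDesc
open Cfsg.Agent.LieClassical.HermBasic
open Cfsg.Agent.Omega.EH3.Kf
open Cfsg.Agent.H415.SpFlag (Good good_of_nonneg)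

/-! ### The flag -/

section General

variable {F : Type*} [Field F] {V : Type*} [AddCommGroup V] [Module F V] [FiniteDimensional F V] {H : HForm F V}
  {m : ℕ} (Fr : Frame H (Fin m))

/-- the standard flag -/
def fl (i : ℕ) : Submodule F V := Submodule.span F ((fun l : Fin m => Fr.b (l, true)) '' {l | (l : ℕ) < i})

/-- the stabiliser of the flag -/
def St : Subgroup (V ≃ₗ[F] V) where
  carrier := {g | ∀ i, (fl Fr i).map (g : V →ₗ[F] V) = fl Fr i}
  one_mem' i := Submodule.map_id _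
  mul_mem' := by
    intro a b ha hb i
    have h1 : ((a * b : V ≃ₗ[F] V) : V →ₗ[F] V) = (a : V →ₗ[F] V).comp (b : V →ₗ[F] V) := rfl
    rw [h1, Submodule.map_comp, hb i, ha i]
  inv_mem' := by
    intro a ha i
    have h1 : ((a⁻¹ : V ≃ₗ[F] V) : V →ₗ[F] V).comp (a : V →ₗ[F] V) = LinearMap.id := by
      ext1 j
      exact a.symm_apply_apply _
    have h2 := congrArg (Submodule.map ((a⁻¹ : V ≃ₗ[F] V) : V →ₗ[F] V)) (ha i)
    rw [← Submodule.map_comp, h1, Submodule.map_id] at h2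
    exact h2.symm

variable {Fr}

theorem e_mem_fl {l : Fin m} {i : ℕ} (h : (l : ℕ) < i) : Fr.b (l, true) ∈ fl Fr i :=
  Submodule.subset_span ⟨l, h, rfl⟩

theorem fl_mono {i j : ℕ} (h : i ≤ j) : fl Fr i ≤ fl Fr j :=
  Submodule.span_mono (Set.image_mono fun _ hl => lt_of_lt_of_le hl h)

theorem mem_St_of {g : V ≃ₗ[F] V} (h : ∀ l : Fin m, g (Fr.b (l, true)) ∈ fl Fr (l + 1)) : g ∈ St Fr := by
  intro i
  have h1 : (fl Fr i).map (g : V →ₗ[F] V) ≤ fl Fr i := by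
    rw [fl, Submodule.map_span, Submodule.span_le]
    rintro _ ⟨_, ⟨l, hl, rfl⟩, rfl⟩
    exact fl_mono hl (h l)
  exact Submodule.eq_of_le_of_finrank_eq h1 (LinearEquiv.finrank_map_eq g _)

theorem tor_le_St {g : V ≃ₗ[F] V} (hg : Mono Fr g id) : g ∈ St Fr := by
  refine mem_St_of fun l => ?_
  obtain ⟨c, -, hc⟩ := hg (l, true)
  have h1 : g (Fr.b (l, true)) = c • Fr.b (l, true) := hc
  rw [h1]
  exact Submodule.smul_mem _ _ (e_mem_fl (Nat.lt_succ_self _))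

theorem h_ee (i j : Fin m) : H.h (Fr.b (i, true)) (Fr.b (j, true)) = 0 := by
  rw [Fr.hb, if_neg]
  rintro ⟨-, h⟩
  exact h rfl

theorem PG_le_St {a b : Fin m × Bool} (hab : Ok a b) (h : Good a b) {g : V ≃ₗ[F] V}
    (hg : g ∈ PG Fr a b) : g ∈ St Fr := by
  refine mem_St_of fun l => ?_
  obtain ⟨i, s⟩ := a
  obtain ⟨j, t⟩ := b
  obtain ⟨hs, h⟩ := h
  simp only at hs h
  subst hs
  rcases hab with hne | heq
  · rw [PG_ne _ hne] at hg
    obtain ⟨c, hc⟩ := hg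
    rw [hc, Frame.X_eq _ hne, HForm.sie_apply]
    rw [h_ee l i, zero_smul, mul_zero, zero_smul, add_zero, add_zero]
    refine sub_mem (e_mem_fl (Nat.lt_succ_self _)) ?_
    rcases h with rfl | ⟨hij, rfl⟩
    · have h2 : H.h (Fr.b (l, true)) (Fr.sc (j, true) c • Fr.b (j, true)) = 0 := by
        rw [HForm.smul_right, h_ee, mul_zero]
      rw [h2, mul_zero, zero_smul]
      exact zero_mem _
    · by_cases hlj : l = j
      · subst hlj
        exact Submodule.smul_mem _ _ (e_mem_fl (lt_of_lt_of_le hij (Nat.le_succ _)))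
      · have h2 : H.h (Fr.b (l, true)) (Fr.sc (j, false) c • Fr.b (j, false)) = 0 := by
          rw [HForm.smul_right, Fr.hb, if_neg fun h => hlj h.1, mul_zero]
        rw [h2, mul_zero, zero_smul]
        exact zero_mem _
  · obtain ⟨rfl, rfl⟩ := Prod.mk.injEq .. ▸ heq
    rw [PG_self] at hg
    obtain ⟨q, hq⟩ := hg
    rw [hq]
    unfold Frame.Z
    rw [HForm.sie_apply]
    have h1 : H.h (Fr.b (l, true)) (Fr.b (i, true)) = 0 := h_ee l i
    have h2 : H.h (Fr.b (l, true)) q.w = 0 := Fr.h0 _ _ (Fr.ok_mem q.ok)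
    rw [h1, h2, zero_smul, mul_zero, zero_smul, mul_zero, zero_smul, add_zero, add_zero, sub_zero]
    exact e_mem_fl (Nat.lt_succ_self _)

variable {K : Type*} [Group K] (M : Model Fr K)

theorem X_le {x : Fin m → ℤ} (hx : x ∈ RGD.Pos (CoxeterMatrix.B m).toCoxeterSystem (TypeC.isCartan m)) :
    WittModel.X M x ≤ ((St Fr).subgroupOf M.I).map M.φ := by
  intro y hy
  rw [WittModel.mem_X] at hy
  obtain ⟨g, hg, hgx, rfl⟩ := hy
  refine ⟨⟨g, hg⟩, ?_, rfl⟩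
  change g ∈ St Fr
  obtain ⟨a, b, hab, e⟩ := exists_of_isRoot _ hx.1
  rw [rg_eq _ hab e] at hgx
  rcases good_of_nonneg hx.2 hab e with h | h
  · exact PG_le_St hab h hgx
  · rw [PG_swap _ hab] at hgx
    exact PG_le_St hab.symm h hgx

/-- **The Borel subgroup fixes the standard flag.** -/
theorem borel_fixes : RGD.B (CoxeterMatrix.B m).toCoxeterSystem (TypeC.isCartan m) (WittModel.T M) (WittModel.X M) ≤
    ((St Fr).subgroupOf M.I).map M.φ := by
  refine sup_le ?_ (iSup_le fun x => X_le M x.2)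
  rintro _ ⟨g, hg, rfl⟩
  exact ⟨g, tor_le_St (Subgroup.mem_subgroupOf.1 hg).2, rfl⟩

/-- the datum of a model -/
theorem exists_dat_model [Finite V] [Finite K] {p : ℕ} [Fact p.Prime] [CharP F p] (hA : AmbT Fr p M.I) {p0 : Fr.Adm}
    (hp0 : p0.c ≠ 0) (hm : 2 ≤ m) (hGd : TwC.Gd (Nodes.WittModel.X M)) :
    ∃ D : H249.Dat K (Fin m) p, (D.U ≤ ⁅D.U, D.U⁆ ⊔ ⨆ i, D.X i) ∧
      (∀ J : Set (Fin m), J.Nonempty → ∃ E : H249.JDat D J,
        E.Q ≤ ⁅D.U, D.U⁆ ⊔ ⨆ i : (Jᶜ : Set (Fin m)), D.X i) ∧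
      (¬ p ∣ D.U.index) ∧ D.B ≤ ((St Fr).subgroupOf M.I).map M.φ := by
  have hC : Cfsg.Agent.Omega.EH3.Kf.Lev.CommGen (CoxeterMatrix.B m).toCoxeterSystem (TypeC.isCartan m)
      (WittModel.X M) := fun _ hr h0 hs => hGd.gen _ hr h0 hs
  have R := rgdC_model M hA hp0 (CoxeterMatrix.B m).toCoxeterSystem
  have hG1 := WittModel.G1_eq_top M (by omega) (CoxeterMatrix.B m).toCoxeterSystem
  have hfinW := finite_W (CoxeterMatrix.B m).toCoxeterSystem
  have hGG : Bruhat.GG (CoxeterMatrix.B m).toCoxeterSystem (TypeC.isCartan m) (WittModel.T M) (WittModel.X M) = ⊤ := by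
    rw [eq_top_iff, ← hG1]
    exact le_sup_right
  have hUi : ¬ p ∣ (RGD.Sup (WittModel.X M) (RGD.Pos (CoxeterMatrix.B m).toCoxeterSystem (TypeC.isCartan m))).index := by
    have h1 := KFacts.RgdSyl.not_dvd_relIndex R
    rwa [hGG, Subgroup.relIndex_top_right] at h1
  have hp : p.Prime := Fact.out
  exact ⟨H249.OfRGD.dat R hp hGG, H249.OfRGD.gen_U R hp hGG hC, fun J hJ => H249.OfRGD.exists_jdat R hp hGG hC hJ,
    hUi, borel_fixes M⟩

end General

section Unitary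

variable {F : Type*} [Field F] [Fintype F] {q : ℕ}

/-- **The datum of `PSU n F q`** with the Borel subgroup fixing a standard totally isotropic flag. -/
theorem exists_dat (hF : Fintype.card F = q ^ 2) {n : ℕ} (hn : 4 ≤ n) (p : ℕ) [Fact p.Prime] [CharP F p] :
    ∃ (m : ℕ) (e : Fin m → (Fin n → F)) (D : H249.Dat (PSU n F q) (Fin m) p), 2 * m ≤ n ∧ n < 2 * m + 2 ∧
      H91.U.Frame (H91.U.sB hF n) e ∧ (D.U ≤ ⁅D.U, D.U⁆ ⊔ ⨆ i, D.X i) ∧
      (∀ J : Set (Fin m), J.Nonempty → ∃ E : H249.JDat D J,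
        E.Q ≤ ⁅D.U, D.U⁆ ⊔ ⨆ i : (Jᶜ : Set (Fin m)), D.X i) ∧ (¬ p ∣ D.U.index) ∧
      ∀ y ∈ D.B, ∃ g : H91.U.SIso (H91.U.sB hF n), H91.U.pi hF n g = y ∧
        ∀ i : ℕ, (H91.U.W F e i).map (g.1 : (Fin n → F) →ₗ[F] (Fin n → F)) = H91.U.W F e i := by
  obtain ⟨m, hm⟩ : ∃ m, n = 2 * m ∨ n = 2 * m + 1 := ⟨n / 2, by omega⟩
  obtain ⟨W, D, hD0, hDJ, hD1, hD2⟩ : ∃ (W : WFrame (PU hF n) m) (D : H249.Dat (PSU n F q) (Fin m) p),
      (D.U ≤ ⁅D.U, D.U⁆ ⊔ ⨆ i, D.X i) ∧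
      (∀ J : Set (Fin m), J.Nonempty → ∃ E : H249.JDat D J,
        E.Q ≤ ⁅D.U, D.U⁆ ⊔ ⨆ i : (Jᶜ : Set (Fin m)), D.X i) ∧ (¬ p ∣ D.U.index) ∧
      D.B ≤ ((St (toFrame W)).subgroupOf (IU F q n)).map (toPSU F q n) := by
    rcases hm with hm | hm
    · obtain ⟨W, hW⟩ := exists_wframe_even (N := n) hF hm
      obtain ⟨p0, hp0⟩ := exists_adm_ne hF W
      obtain ⟨D, h⟩ := exists_dat_model (KInstU.model hF (by omega) W) (AmbT.of_amb (amb_U hF W) p) hp0 (by omega)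
        (TwWitt.gd_of_tr _ (H396.CommTab.htr_even hF W hW) hp0)
      exact ⟨W, D, h⟩
    · obtain ⟨W, d, hd, hW⟩ := exists_wframe_odd (N := n) hF hm
      obtain ⟨p0, hp0⟩ := exists_adm_ne hF W
      obtain ⟨D, h⟩ := exists_dat_model (KInstU.model hF (by omega) W) (AmbT.of_amb (amb_U hF W) p) hp0 (by omega)
        (UOdd.gd _ ⟨d, by
          have h1 : (HU hF n).h d d = 1 := hd
          rw [h1]
          exact one_ne_zero, H396.CommTab.exists_ok hF W hW⟩)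
      exact ⟨W, D, h⟩
  refine ⟨m, W.e, D, by omega, by omega, ⟨?_, fun i l => ?_⟩, hD0, hDJ, hD1, ?_⟩
  · rw [Fintype.linearIndependent_iff]
    intro c hc i
    have h1 : hermForm n F q (∑ j, c j • W.e j) (W.f i) = c i := by
      rw [herm_sum_left]
      simp only [herm_smul_left]
      have h2 : ∀ j, hermForm n F q (W.e j) (W.f i) = if j = i then 1 else 0 := fun j => W.ef j i
      simp only [h2, mul_ite, mul_one, mul_zero, Finset.sum_ite_eq', Finset.mem_univ, if_true]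
    rw [hc, herm_zero_left] at h1
    exact h1.symm
  · exact W.ee l i
  · intro y hy
    obtain ⟨g, hg, rfl⟩ := hD2 hy
    have h1 : g.1 ∈ H91.U.SIso (H91.U.sB hF n) := (H91.U.SIso_sB hF n).ge g.2
    exact ⟨⟨g.1, h1⟩, rfl, hg⟩

end Unitary

end Cfsg.Agent.H91.UBorel
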