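import Cfsg.Agent.H985.UT.HB
import Cfsg.Agent.H985.UT.Alt
import Cfsg.Agent.H489.OutSpor
import Cfsg.Agent.H921.SporLe
import Cfsg.Agent.H921.SporSuz
import Cfsg.Agent.H806.LsFiLe
import Cfsg.Agent.H489.DegHe
import Cfsg.Agent.H489.DegHN
import Cfsg.Agent.H489.DegTh
import Cfsg.Agent.H489.DegLy
import Cfsg.Agent.H489.DegON
import Cfsg.Agent.H489.DegRu
import Cfsg.Agent.NotCT.Orders
import Cfsg.Agent.S2048

/-!
# S2196, part (B2): the sporadic groups (helper91)
-/

set_option autoImplicit false
set_option linter.unusedSectionVars false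
set_option exponentiation.threshold 2000

universe u

namespace Cfsg.Agent.H91.U

open Cfsg Cfsg.Geo Matrix Cfsg.Agent.H915.LD Cfsg.Agent.H985.UT Cfsg.Agent.NotCT

variable {F : Type u} [Field F] [Fintype F] {n q : ℕ} {P : Subgroup (GL (Fin n) F)}

theorem aut_le (h : HB q n P) (hs : IsSporadicGroup (Soc P)) : Nat.card (MulAut (Soc P)) ≤ 2 * Nat.card (Soc P) := by
  rw [← h.card_aut]
  exact Nat.mul_le_mul_right _ (H489.card_out_sporadic hs)

/-- large degree -/
theorem kill_big (h : HB q n P) (hs : IsSporadicGroup (Soc P)) {N : ℕ} (hN : Nat.card (Soc P) = N) {m : ℕ} (hm : m ≤ n)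
    (hlt : 6 * (2 * N) ^ 2 < 3 ^ (m ^ 2 - 3)) : False :=
  h.kill hm h.three (by norm_num) (hN ▸ aut_le h hs) hlt

/-- small order -/
theorem kill_small (h : HB q n P) (hs : IsSporadicGroup (Soc P)) {N : ℕ} (hN : Nat.card (Soc P) = N)
    (hlt : N ≤ 10 ^ 9) (h61 : ¬ 61 ∣ N) : False := by
  have h1 := aut_le h hs
  rw [hN] at h1
  by_cases h7 : 7 ≤ n
  · exact h.kill h7 h.three (by norm_num) (h1.trans (Nat.mul_le_mul_left 2 hlt)) (by norm_num)
  have h6 := h.six
  by_cases h4 : 4 ≤ q
  · exact h.kill h6 h4 (by norm_num) (h1.trans (Nat.mul_le_mul_left 2 hlt)) (by norm_num)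
  have h3 := h.three
  refine h.kill61 (by omega) (by omega) ?_
  rw [← h.card_aut]
  intro h2
  rcases (Nat.Prime.dvd_mul (by norm_num)).1 h2 with h5 | h5
  · have h8 := H489.card_out_sporadic hs
    have h9 : 0 < Nat.card (Out (Soc P)) := by
      have := (h.card_aut)
      have h10 : 0 < Nat.card (MulAut (Soc P)) := Nat.card_pos
      rw [← this] at h10
      exact Nat.pos_of_mul_pos_right h10
    have := Nat.le_of_dvd h9 h5
    omega
  · exact h61 (hN ▸ h5)

/-- **The sporadic groups.** -/
theorem not_sporadic (h : HB q n P) : ¬ IsSporadicGroup (Soc P) := by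
  intro hs
  obtain ⟨p, hpF⟩ := CharP.exists F
  have hp : p.Prime := CharP.char_is_prime F p
  have hc := h.core
  rcases id hs with hh | hh | hh | hh | hh | hh | hh | hh | hh | hh | hh | hh | hh | hh | hh | hh | hh | hh | hh | hh | hh | hh | hh | hh | hh | hh
  · exact kill_small h hs (Orders.m11 hh) (by norm_num) (by norm_num)
  · exact kill_small h hs (Orders.m12 hh) (by norm_num) (by norm_num)
  · exact kill_small h hs (Orders.m22 hh) (by norm_num) (by norm_num)
  · exact kill_small h hs (Orders.m23 hh) (by norm_num) (by norm_num)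
  · exact kill_small h hs (Orders.m24 hh) (by norm_num) (by norm_num)
  · exact kill_small h hs (Orders.j1 hh) (by norm_num) (by norm_num)
  · exact kill_small h hs (Orders.j2 hh) (by norm_num) (by norm_num)
  · exact kill_small h hs (Orders.j3 hh) (by norm_num) (by norm_num)
  · exact kill_big h hs (Orders.j4 hh) (hh.elim fun e => H921.Spor.Le.j4_le hp hc e) (by norm_num)
  · exact kill_big h hs (Orders.co1 hh) (hh.elim fun e => H921.Spor.Le.co1_le hp hc e) (by norm_num)
  · exact kill_big h hs (Orders.co2 hh) (hh.elim fun e => H921.Spor.Le.co2_le hp hc e) (by norm_num)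
  · exact kill_big h hs (Orders.co3 hh) (hh.elim fun e => H921.Spor.Le.co3_le hp hc e) (by norm_num)
  · exact kill_small h hs (Orders.mcl hh) (by norm_num) (by norm_num)
  · exact kill_small h hs (Orders.hs hh) (by norm_num) (by norm_num)
  · by_cases h5 : p = 11
    · refine kill_big h hs (Orders.suz hh) (m := 12) ?_ (by norm_num)
      obtain ⟨e⟩ := hh
      exact H489.Deg.le_of_bd hc e Cfsg.Agent.S2048.result (r := 5) (by norm_num)
        (H921.Spor.Suz.Suz_five.bd (F := F) (by norm_num)
          (H489.Deg.cast_ne (F := F) hp (by norm_num : (5 : ℕ).Prime) (by omega)))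
    · refine kill_big h hs (Orders.suz hh) (m := 10) ?_ (by norm_num)
      obtain ⟨e⟩ := hh
      exact H489.Deg.le_of_bd hc e Cfsg.Agent.S2048.result (r := 11) (by norm_num)
        (H921.Spor.Suz.Suz_eleven.bd (F := F) (by norm_num)
          (H489.Deg.cast_ne (F := F) hp (by norm_num : (11 : ℕ).Prime) h5))
  · exact kill_big h hs (Orders.he hh) (hh.elim fun e => H489.Deg.He.he_le hp hc e) (by norm_num)
  · exact kill_big h hs (Orders.ru hh) (hh.elim fun e => H489.Deg.Ru.ru_le hp hc e) (by norm_num)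
  · exact kill_big h hs (Orders.on hh) (hh.elim fun e => H489.Deg.ON.on_le hp hc e) (by norm_num)
  · exact kill_big h hs (Orders.ly hh) (hh.elim fun e => H489.Deg.Ly.ly_le hp hc e) (by norm_num)
  · exact kill_big h hs (Orders.fi22 hh) (hh.elim fun e => H806.Ls.fi22_le hp hc e) (by norm_num)
  · exact kill_big h hs (Orders.fi23 hh) (hh.elim fun e => H806.Ls.fi23_le hp hc e) (by norm_num)
  · exact kill_big h hs (Orders.fi24 hh) (hh.elim fun e => H921.Spor.Le.fi24_le hp hc e) (by norm_num)
  · exact kill_big h hs (Orders.hn hh) (hh.elim fun e => H489.Deg.HN.hn_le hp hc e) (by norm_num)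
  · exact kill_big h hs (Orders.th hh) (hh.elim fun e => H489.Deg.Th.th_le hp hc e) (by norm_num)
  · exact kill_big h hs (Orders.b hh) (hh.elim fun e => H806.Ls.b_le hp hc e) (by norm_num)
  · exact kill_big h hs (Orders.m hh) (hh.elim fun e => H806.Ls.m_le hp hc e) (by norm_num)

end Cfsg.Agent.H91.U
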