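import Cfsg.Agent.H91.U.Main
import Cfsg.Agent.H392.UG.Base
import Cfsg.Agent.H985.UT.Fin

/-!
# Primitive rank three actions of `PSU` (helper91, S2196): (B) from the sporadic rows
-/

set_option autoImplicit false
set_option linter.unusedSectionVars false

namespace Cfsg.Agent.H91.U

open Matrix Cfsg Cfsg.Geo Module Cfsg.Agent.H918

/-- **(B)**: no maximal subgroup of large order is transitive on the isotropic points -/
theorem transIso_of {F : Type*} [Field F] [Fintype F] {n q : ℕ} (hF : Fintype.card F = q ^ 2) (hn : 6 ≤ n) (hq : 3 ≤ q)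
    (hspor : ∀ P : Subgroup (GL (Fin n) F), H985.UT.HB q n P → ¬ IsSporadicGroup (H915.LD.Soc P)) :
    TransIso F q n := by
  intro K hmax hord htr
  have h1 := H392.UG.residual hF hn hmax (fun v w hv hw hvv hww => htr v w hv hvv hw hww) hord
  obtain ⟨P, hc, -, -⟩ := h1
  exact H985.UT.trans_residual_of hspor hF hn hq hmax.1 hc hord htr

end Cfsg.Agent.H91.U
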